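import Cfsg.Agent.Spor.Suz280.D0

set_option autoImplicit false
set_option maxRecDepth 100000000
set_option Elab.async false

namespace Cfsg.Agent.Spor.Suz280

theorem ok0 : Net.okb 9 n0 = true := by decide +kernel

theorem ok1 : Net.okb 9 n1 = true := by decide +kernel

theorem ok2 : Net.okb 9 n2 = true := by decide +kernel

theorem ok3 : Net.okb 9 n3 = true := by decide +kernel

theorem ok4 : Net.okb 9 n4 = true := by decide +kernel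

theorem rel0 : T.rel 9 [1, 1] 0 9 = true := by decide +kernel

theorem rel1 : T.rel 9 [2, 2] 0 9 = true := by decide +kernel

theorem rel2 : T.rel 9 [3, 3] 0 9 = true := by decide +kernel

theorem rel3 : T.rel 9 [4, 4] 0 9 = true := by decide +kernel

theorem rel4 : T.rel 9 [5, 5] 0 9 = true := by decide +kernel

theorem rel5 : T.rel 9 [2, 1, 2, 1, 2, 1, 2, 1, 2, 1] 0 9 = true := by decide +kernel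

theorem rel6 : T.rel 9 [3, 1, 3, 1] 0 9 = true := by decide +kernel

theorem rel7 : T.rel 9 [4, 1, 4, 1] 0 9 = true := by decide +kernel

theorem rel8 : T.rel 9 [5, 1, 5, 1] 0 9 = true := by decide +kernel

theorem rel9 : T.rel 9 [3, 2, 3, 2, 3, 2] 0 9 = true := by decide +kernel

theorem rel10 : T.rel 9 [4, 2, 4, 2] 0 9 = true := by decide +kernel

theorem rel11 : T.rel 9 [5, 2, 5, 2] 0 9 = true := by decide +kernel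

theorem rel12 : T.rel 9 [4, 3, 4, 3, 4, 3, 4, 3, 4, 3, 4, 3, 4, 3, 4, 3] 0 9 = true := by decide +kernel

theorem rel13 : T.rel 9 [5, 3, 5, 3] 0 9 = true := by decide +kernel

theorem rel14 : T.rel 9 [5, 4, 5, 4, 5, 4] 0 9 = true := by decide +kernel

theorem rel15 : T.rel 9 [3, 4, 3, 4, 3, 4, 3, 4, 1] 0 9 = true := by decide +kernel

theorem rel16 : T.rel 9 [5, 4, 3, 4, 3, 2, 4, 3, 4, 3, 2, 4, 3, 4, 3, 2, 4, 3, 4, 3, 2, 4, 3, 4, 3, 2, 5, 4, 3, 4, 3, 2, 4, 3, 4, 3, 2, 4, 3, 4, 3, 2, 4, 3, 4, 3, 2, 4, 3, 4, 3, 2, 5, 4, 3, 4, 3, 2, 4, 3, 4, 3, 2, 4, 3, 4, 3, 2, 4, 3, 4, 3, 2, 4, 3, 4, 3, 2] 0 9 = true := by decide +kernel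

theorem hcov : T.treeCov (ones 280) L 1 = true := by decide +kernel

theorem hg : lall (fun z => band (memL L z) (band (sub (ones 280) (T.let z).cl) (T.closed (ones 280) z))) gs = true := by decide +kernel

theorem hivk : ivOk (2 * 5) EX IV = true := by decide +kernel

theorem hrt : RT.ok (2 * 5) EX RL = true := by decide +kernel

theorem hdefs : defs F 111 = true := by decide +kernel

noncomputable def st0_l : List Nat := [nat_lit 0x3ff, nat_lit 0x3ff, nat_lit 0x3ff, nat_lit 0x3ff, nat_lit 0x6f80000403, nat_lit 0x7080000403, nat_lit 0x7180000403, nat_lit 0x20007480000c03, nat_lit 0x1000004000010003ac001ce000030000280002408, nat_lit 0x12000ee0000400001000004000eb0000180001408, nat_lit 0x1800008000ed0000280001c05, nat_lit 0xc0000300002403, nat_lit 0x500001c0000a000030003c40000e0000b0000780005409,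 nat_lit 0xa0007980002c03, nat_lit 0x4400018000080003e0000140000d0000980006c08, nat_lit 0x46000fb0000d00004800018000f30000680004c08, nat_lit 0x160000700004403, nat_lit 0x48001ea000ef0007a00004c05, nat_lit 0x1c0000a00005c03, nat_lit 0x8000030000fe0000f80009c05, nat_lit 0x1a0008080006c03, nat_lit 0x1e0008100009403, nat_lit 0x2c0001000008c03, nat_lit 0xd800054000200007e800404001f800021000158000dc09, nat_lit 0x34000130000a403, nat_lit 0x2a000828000cc03, nat_lit 0x38000150000b403, nat_lit 0x3a000170000c403, nat_lit 0x3e0001b0000e403, nat_lit 0x3e000868000fc03, nat_lit 0x420008c80010c03, nat_lit 0x42c001f6001060007d00042805, nat_lit 0x6800104000168004740022400038000888000f408, nat_lit 0x70001110001e80047800068001040001680044808, nat_lit 0x1080022e001200008b00010c05, nat_lit 0x1200001c000f90000780012405,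 nat_lit 0x4a0002400005403, nat_lit 0x4c0009280013403, nat_lit 0x1380024e000f70009300013c05, nat_lit 0x500002500013403, nat_lit 0x560002700014403, nat_lit 0x580009680014c03, nat_lit 0x168000a4001290002980016c05, nat_lit 0xb800052000960001400024e0001d000128000c408, nat_lit 0x5e0002a00015c03, nat_lit 0xc8000580009680013000090000170000f8000a408, nat_lit 0x680002d00017403, nat_lit 0x6a0009b80018403, nat_lit 0x1b0000c00012f0002c80018c05, nat_lit 0x720003100019403, nat_lit 0x76000330001a403, nat_lit 0x1e000276001350008a00010405, nat_lit 0xf80006a0009b8001580025600057000308001bc08, nat_lit 0x7e0009f8001c403, nat_lit 0x80000360001bc03, nat_lit 0x84000380001cc03, nat_lit 0x21800282001390008700047c05, nat_lit 0x8a0003a0001dc03, nat_lit 0x8c000a18001e403, nat_lit 0x8e000a280011403, nat_lit 0x920003d0001f403,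 nat_lit 0x960003f00020403, nat_lit 0x2680010400070000310004c4000b6000670003a80022409, nat_lit 0x9c000a680021c03, nat_lit 0x9e000a78000f003, nat_lit 0xa4000a980023c03, nat_lit 0x1480008c000a18001a000266000690003c80023c08, nat_lit 0xaa0004800024c03, nat_lit 0x2b0002ae00147000a500026405, nat_lit 0xb20004a00025c03, nat_lit 0xb4000ac80026403, nat_lit 0xb6000ae80027c03, nat_lit 0x1700016c0005b00027000108001480004b8002d408, nat_lit 0x2e800140001510004680028c05, nat_lit 0xbc0005100029403, nat_lit 0xbe000b080029c03, nat_lit 0x30800150000900003d0004f4000da0007f0004a8002bc09, nat_lit 0xc4000540002ac03, nat_lit 0xc6000b28002b403, nat_lit 0xc8000570002cc03, nat_lit 0xd0000b780033c03, nat_lit 0x340001700015f000880000dc05, nat_lit 0x1810008600060003, nat_lit 0x17e000c10005fc03, nat_lit 0x5ec002ce0016a000678006100019c0016b000b30005e809,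 nat_lit 0x5e40018e00186000630005e005, nat_lit 0xd2000b98002fc03, nat_lit 0xd4000ba80030403, nat_lit 0xd60006100031403, nat_lit 0xd6000bb80032403, nat_lit 0x18f000c400063803, nat_lit 0xd8000be80033403, nat_lit 0x3600032000193000c880036405, nat_lit 0x36800194000b00004a00025c0016a0016e0005c00057c0007a0011e0001a00041000040000230007d80006800024000f50000400001000004000eb00074800000001ca000e30007280038c001c2000e500071800394001c6000e10007280038c001ca000e300070800394001c6000e500071800384001ca000e30007280038c001c2000010000180001400012000ef0007a000030001e60000d0000980040400036000fa00011000060001fc0001600024800134000a60005b000348001e40011e00162000b900034c4d, nat_lit 0xd4000c500066003, nat_lit 0x37000198001690005a80033c05, nat_lit 0x19d000c200067003, nat_lit 0xcf8003700032800197000ca8003740033e000dc000ca00065c0a,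 nat_lit 0x3400019e000d080065404, nat_lit 0x338001a1000d180033004, nat_lit 0xcf000d28005a403, nat_lit 0x17f000d28002c803, nat_lit 0x16f000d380025803, nat_lit 0xb0000d400060403, nat_lit 0xb9000d580052403, nat_lit 0xca000d68000fc03, nat_lit 0x82000d700057c03, nat_lit 0xda000d880010c03, nat_lit 0x9a000d98000c803, nat_lit 0x19b000da80048c03, nat_lit 0x198000da80011c03, nat_lit 0x15a000db80009803, nat_lit 0x18c000dc80046c03, nat_lit 0xd5000dc80011c03, nat_lit 0xdd00034802, nat_lit 0x89000de80042403, nat_lit 0xc1000df80011c03, nat_lit 0x1c2000e00002f803, nat_lit 0x8a000e28000c403, nat_lit 0x390001c2000e300029804, nat_lit 0x730002e4001c9000e680055405, nat_lit 0x2f400392001cd000e780011005, nat_lit 0xa0000e58004d003, nat_lit 0x171000e880010003, nat_lit 0x276001d20005d80075404, nat_lit 0x13a000eb80045403,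 nat_lit 0x5d000ec8000c003, nat_lit 0x53000ed80009003, nat_lit 0x4d000ee80007003, nat_lit 0x2480077c02]
theorem st0 : band (steps F IV RT base st0_l 111) (Nat.beq (Nat.add 111 (llen st0_l)) 241) = true := by decide +kernel

theorem rot1_1 : T.rot 1 [1] (sel (ones 280) ip1 1) = true := by decide +kernel

theorem rot1_1r : band (Rule.ok (2 * 5) EX RL ⟨1 :: [1], [], 12, false⟩) (lall (memL L) [1]) = true := by decide +kernel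

theorem rot1_2 : T.rot 1 [3, 1, 3] (sel (ones 280) ip1 2) = true := by decide +kernel

theorem rot1_2r : band (Rule.ok (2 * 5) EX RL ⟨1 :: [3, 1, 3], [], 1, false⟩) (lall (memL L) [3, 1, 3]) = true := by decide +kernel

theorem rot1_3 : T.rot 1 [4, 1, 4] (sel (ones 280) ip1 3) = true := by decide +kernel

theorem rot1_3r : band (Rule.ok (2 * 5) EX RL ⟨1 :: [4, 1, 4], [], 2, false⟩) (lall (memL L) [4, 1, 4]) = true := by decide +kernel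

theorem rot1_4 : T.rot 1 [5, 1, 5] (sel (ones 280) ip1 4) = true := by decide +kernel

theorem rot1_4r : band (Rule.ok (2 * 5) EX RL ⟨1 :: [5, 1, 5], [], 3, false⟩) (lall (memL L) [5, 1, 5]) = true := by decide +kernel

theorem rot1_5 : T.rot 1 [3, 4, 3, 4, 3, 4, 3, 4] (sel (ones 280) ip1 5) = true := by decide +kernel

theorem rot1_5r : band (Rule.ok (2 * 5) EX RL ⟨1 :: [3, 4, 3, 4, 3, 4, 3, 4], [0], 10, true⟩) (lall (memL L) [3, 4, 3, 4, 3, 4, 3, 4]) = true := by decide +kernel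

theorem rot1_6 : T.rot 1 [4, 3, 4, 3, 4, 3, 4, 3] (sel (ones 280) ip1 6) = true := by decide +kernel

theorem rot1_6r : band (Rule.ok (2 * 5) EX RL ⟨1 :: [4, 3, 4, 3, 4, 3, 4, 3], [], 10, false⟩) (lall (memL L) [4, 3, 4, 3, 4, 3, 4, 3]) = true := by decide +kernel

theorem rot1_7 : T.rot 1 [2, 1, 2, 1, 2, 1, 2, 1, 2] (sel (ones 280) ip1 7) = true := by decide +kernel

theorem rot1_7r : band (Rule.ok (2 * 5) EX RL ⟨1 :: [2, 1, 2, 1, 2, 1, 2, 1, 2], [], 0, false⟩) (lall (memL L) [2, 1, 2, 1, 2, 1, 2, 1, 2]) = true := by decide +kernel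

theorem cov1 : T.cover 1 [(sel (ones 280) ip1 1), (sel (ones 280) ip1 2), (sel (ones 280) ip1 3), (sel (ones 280) ip1 4), (sel (ones 280) ip1 5), (sel (ones 280) ip1 6), (sel (ones 280) ip1 7), 1] = true := by decide +kernel

theorem tl1 : T.treeLt 9 1 = true := by decide +kernel

theorem rot2_1 : T.rot 2 [2] (sel (ones 280) ip2 1) = true := by decide +kernel

theorem rot2_1r : band (Rule.ok (2 * 5) EX RL ⟨2 :: [2], [], 12, false⟩) (lall (memL L) [2]) = true := by decide +kernel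

theorem rot2_2 : T.rot 2 [4, 2, 4] (sel (ones 280) ip2 2) = true := by decide +kernel

theorem rot2_2r : band (Rule.ok (2 * 5) EX RL ⟨2 :: [4, 2, 4], [], 5, false⟩) (lall (memL L) [4, 2, 4]) = true := by decide +kernel

theorem rot2_3 : T.rot 2 [5, 2, 5] (sel (ones 280) ip2 3) = true := by decide +kernel

theorem rot2_3r : band (Rule.ok (2 * 5) EX RL ⟨2 :: [5, 2, 5], [], 6, false⟩) (lall (memL L) [5, 2, 5]) = true := by decide +kernel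

theorem rot2_4 : T.rot 2 [3, 2, 3, 2, 3] (sel (ones 280) ip2 4) = true := by decide +kernel

theorem rot2_4r : band (Rule.ok (2 * 5) EX RL ⟨2 :: [3, 2, 3, 2, 3], [], 4, false⟩) (lall (memL L) [3, 2, 3, 2, 3]) = true := by decide +kernel

theorem rot2_5 : T.rot 2 [1, 2, 1, 2, 1, 2, 1, 2, 1] (sel (ones 280) ip2 5) = true := by decide +kernel

theorem rot2_5r : band (Rule.ok (2 * 5) EX RL ⟨2 :: [1, 2, 1, 2, 1, 2, 1, 2, 1], [], 0, true⟩) (lall (memL L) [1, 2, 1, 2, 1, 2, 1, 2, 1]) = true := by decide +kernel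

theorem rot2_6 : T.rot 2 [4, 3, 4, 3, 2, 4, 3, 4, 3, 2, 4, 3, 4, 3, 2, 4, 3, 4, 3, 2, 5, 4, 3, 4, 3, 2, 4, 3, 4, 3, 2, 4, 3, 4, 3, 2, 4, 3, 4, 3, 2, 4, 3, 4, 3, 2, 5, 4, 3, 4, 3, 2, 4, 3, 4, 3, 2, 4, 3, 4, 3, 2, 4, 3, 4, 3, 2, 4, 3, 4, 3, 2, 5, 4, 3, 4, 3] (sel (ones 280) ip2 6) = true := by decide +kernel

theorem rot2_6r : band (Rule.ok (2 * 5) EX RL ⟨2 :: [4, 3, 4, 3, 2, 4, 3, 4, 3, 2, 4, 3, 4, 3, 2, 4, 3, 4, 3, 2, 5, 4, 3, 4, 3, 2, 4, 3, 4, 3, 2, 4, 3, 4, 3, 2, 4, 3, 4, 3, 2, 4, 3, 4, 3, 2, 5, 4, 3, 4, 3, 2, 4, 3, 4, 3, 2, 4, 3, 4, 3, 2, 4, 3, 4, 3, 2, 4, 3, 4, 3, 2, 5, 4, 3, 4, 3], [8, 6, 4, 6, 4], 11, true⟩) (lall (memL L) [4, 3, 4, 3, 2, 4, 3, 4, 3, 2, 4, 3, 4, 3, 2, 4, 3, 4, 3, 2, 5, 4, 3, 4, 3, 2, 4, 3, 4, 3, 2, 4, 3, 4, 3, 2, 4, 3, 4, 3, 2, 4, 3, 4, 3, 2, 5, 4, 3, 4, 3, 2, 4, 3,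 4, 3, 2, 4, 3, 4, 3, 2, 4, 3, 4, 3, 2, 4, 3, 4, 3, 2, 5, 4, 3, 4, 3]) = true := by decide +kernel

theorem rot2_7 : T.rot 2 [4, 3, 4, 3, 2, 4, 3, 4, 3, 2, 4, 3, 4, 3, 2, 5, 4, 3, 4, 3, 2, 4, 3, 4, 3, 2, 4, 3, 4, 3, 2, 4, 3, 4, 3, 2, 4, 3, 4, 3, 2, 5, 4, 3, 4, 3, 2, 4, 3, 4, 3, 2, 4, 3, 4, 3, 2, 4, 3, 4, 3, 2, 4, 3, 4, 3, 2, 5, 4, 3, 4, 3, 2, 4, 3, 4, 3] (sel (ones 280) ip2 7) = true := by decide +kernel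

theorem rot2_7r : band (Rule.ok (2 * 5) EX RL ⟨2 :: [4, 3, 4, 3, 2, 4, 3, 4, 3, 2, 4, 3, 4, 3, 2, 5, 4, 3, 4, 3, 2, 4, 3, 4, 3, 2, 4, 3, 4, 3, 2, 4, 3, 4, 3, 2, 4, 3, 4, 3, 2, 5, 4, 3, 4, 3, 2, 4, 3, 4, 3, 2, 4, 3, 4, 3, 2, 4, 3, 4, 3, 2, 4, 3, 4, 3, 2, 5, 4, 3, 4, 3, 2, 4, 3, 4, 3], [8, 6, 4, 6, 4, 2, 6, 4, 6, 4], 11, true⟩) (lall (memL L) [4, 3, 4, 3, 2, 4, 3, 4, 3, 2, 4, 3, 4, 3, 2, 5, 4, 3, 4, 3, 2, 4, 3, 4, 3, 2, 4, 3, 4, 3, 2, 4, 3, 4, 3, 2, 4, 3, 4, 3, 2, 5, 4, 3, 4, 3, 2, 4, 3, 4, 3, 2, 4, 3, 4, 3, 2, 4, 3, 4, 3, 2, 4, 3, 4, 3, 2, 5, 4, 3, 4, 3, 2, 4, 3, 4, 3]) = true := by decide +kernel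

theorem rot2_8 : T.rot 2 [4, 3, 4, 3, 2, 4, 3, 4, 3, 2, 5, 4, 3, 4, 3, 2, 4, 3, 4, 3, 2, 4, 3, 4, 3, 2, 4, 3, 4, 3, 2, 4, 3, 4, 3, 2, 5, 4, 3, 4, 3, 2, 4, 3, 4, 3, 2, 4, 3, 4, 3, 2, 4, 3, 4, 3, 2, 4, 3, 4, 3, 2, 5, 4, 3, 4, 3, 2, 4, 3, 4, 3, 2, 4, 3, 4, 3] (sel (ones 280) ip2 8) = true := by decide +kernel

theorem rot2_8r : band (Rule.ok (2 * 5) EX RL ⟨2 :: [4, 3, 4, 3, 2, 4, 3, 4, 3, 2, 5, 4, 3, 4, 3, 2, 4, 3, 4, 3, 2, 4, 3, 4, 3, 2, 4, 3, 4, 3, 2, 4, 3, 4, 3, 2, 5, 4, 3, 4, 3, 2, 4, 3, 4, 3, 2, 4, 3, 4, 3, 2, 4, 3, 4, 3, 2, 4, 3, 4, 3, 2, 5, 4, 3, 4, 3, 2, 4, 3, 4, 3, 2, 4, 3, 4, 3], [2, 4, 6, 4, 6, 2, 4, 6, 4, 6, 2], 11, true⟩) (lall (memL L) [4, 3, 4, 3, 2, 4, 3, 4, 3, 2, 5, 4, 3, 4, 3, 2, 4, 3, 4, 3, 2, 4, 3, 4, 3, 2, 4, 3, 4, 3, 2, 4, 3, 4, 3, 2, 5, 4, 3, 4, 3, 2, 4, 3, 4, 3, 2, 4,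 3, 4, 3, 2, 4, 3, 4, 3, 2, 4, 3, 4, 3, 2, 5, 4, 3, 4, 3, 2, 4, 3, 4, 3, 2, 4, 3, 4, 3]) = true := by decide +kernel

theorem rot2_9 : T.rot 2 [5, 4, 3, 4, 3, 2, 4, 3, 4, 3, 2, 4, 3, 4, 3, 2, 4, 3, 4, 3, 2, 4, 3, 4, 3, 2, 5, 4, 3, 4, 3, 2, 4, 3, 4, 3, 2, 4, 3, 4, 3, 2, 4, 3, 4, 3, 2, 4, 3, 4, 3, 2, 5, 4, 3, 4, 3, 2, 4, 3, 4, 3, 2, 4, 3, 4, 3, 2, 4, 3, 4, 3, 2, 4, 3, 4, 3] (sel (ones 280) ip2 9) = true := by decide +kernel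

theorem rot2_9r : band (Rule.ok (2 * 5) EX RL ⟨2 :: [5, 4, 3, 4, 3, 2, 4, 3, 4, 3, 2, 4, 3, 4, 3, 2, 4, 3, 4, 3, 2, 4, 3, 4, 3, 2, 5, 4, 3, 4, 3, 2, 4, 3, 4, 3, 2, 4, 3, 4, 3, 2, 4, 3, 4, 3, 2, 4, 3, 4, 3, 2, 5, 4, 3, 4, 3, 2, 4, 3, 4, 3, 2, 4, 3, 4, 3, 2, 4, 3, 4, 3, 2, 4, 3, 4, 3], [2], 11, true⟩) (lall (memL L) [5, 4, 3, 4, 3, 2, 4, 3, 4, 3, 2, 4, 3, 4, 3, 2, 4, 3, 4, 3, 2, 4, 3, 4, 3, 2, 5, 4, 3, 4, 3, 2, 4, 3, 4, 3, 2, 4, 3, 4, 3, 2, 4, 3, 4, 3, 2, 4, 3, 4, 3, 2, 5, 4, 3, 4, 3, 2, 4, 3, 4, 3, 2, 4, 3, 4, 3, 2, 4, 3, 4, 3, 2, 4, 3, 4, 3]) = true := by decide +kernel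

theorem rot2_10 : T.rot 2 [3, 4, 3, 4, 2, 3, 4, 3, 4, 2, 3, 4, 3, 4, 2, 3, 4, 3, 4, 2, 3, 4, 3, 4, 5, 2, 3, 4, 3, 4, 2, 3, 4, 3, 4, 2, 3, 4, 3, 4, 2, 3, 4, 3, 4, 2, 3, 4, 3, 4, 5, 2, 3, 4, 3, 4, 2, 3, 4, 3, 4, 2, 3, 4, 3, 4, 2, 3, 4, 3, 4, 2, 3, 4, 3, 4, 5] (sel (ones 280) ip2 10) = true := by decide +kernel

theorem rot2_10r : band (Rule.ok (2 * 5) EX RL ⟨2 :: [3, 4, 3, 4, 2, 3, 4, 3, 4, 2, 3, 4, 3, 4, 2, 3, 4, 3, 4, 2, 3, 4, 3, 4, 5, 2, 3, 4, 3, 4, 2, 3, 4, 3, 4, 2, 3, 4, 3, 4, 2, 3, 4, 3, 4, 2, 3, 4, 3, 4, 5, 2, 3, 4, 3, 4, 2, 3, 4, 3, 4, 2, 3, 4, 3, 4, 2, 3, 4, 3, 4, 2, 3, 4, 3, 4, 5], [], 11, false⟩) (lall (memL L) [3, 4, 3, 4, 2, 3, 4, 3, 4, 2, 3, 4, 3, 4, 2, 3, 4, 3, 4, 2, 3, 4, 3, 4, 5, 2, 3, 4, 3, 4, 2, 3, 4, 3, 4, 2, 3, 4, 3, 4, 2, 3, 4, 3, 4, 2, 3, 4, 3, 4, 5, 2, 3, 4, 3, 4, 2,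 3, 4, 3, 4, 2, 3, 4, 3, 4, 2, 3, 4, 3, 4, 2, 3, 4, 3, 4, 5]) = true := by decide +kernel

theorem rot2_11 : T.rot 2 [3, 4, 3, 4, 2, 3, 4, 3, 4, 2, 3, 4, 3, 4, 5, 2, 3, 4, 3, 4, 2, 3, 4, 3, 4, 2, 3, 4, 3, 4, 2, 3, 4, 3, 4, 2, 3, 4, 3, 4, 5, 2, 3, 4, 3, 4, 2, 3, 4, 3, 4, 2, 3, 4, 3, 4, 2, 3, 4, 3, 4, 2, 3, 4, 3, 4, 5, 2, 3, 4, 3, 4, 2, 3, 4, 3, 4] (sel (ones 280) ip2 11) = true := by decide +kernel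

theorem rot2_11r : band (Rule.ok (2 * 5) EX RL ⟨2 :: [3, 4, 3, 4, 2, 3, 4, 3, 4, 2, 3, 4, 3, 4, 5, 2, 3, 4, 3, 4, 2, 3, 4, 3, 4, 2, 3, 4, 3, 4, 2, 3, 4, 3, 4, 2, 3, 4, 3, 4, 5, 2, 3, 4, 3, 4, 2, 3, 4, 3, 4, 2, 3, 4, 3, 4, 2, 3, 4, 3, 4, 2, 3, 4, 3, 4, 5, 2, 3, 4, 3, 4, 2, 3, 4, 3, 4], [2, 4, 6, 4, 6, 2, 4, 6, 4, 6], 11, false⟩) (lall (memL L) [3, 4, 3, 4, 2, 3, 4, 3, 4, 2, 3, 4, 3, 4, 5, 2, 3, 4, 3, 4, 2, 3, 4, 3, 4, 2, 3, 4, 3, 4, 2, 3, 4, 3, 4, 2, 3, 4, 3, 4, 5, 2, 3, 4, 3, 4, 2, 3, 4, 3, 4, 2, 3, 4, 3, 4, 2, 3, 4, 3, 4, 2, 3, 4, 3, 4, 5, 2, 3, 4, 3, 4, 2, 3, 4, 3, 4]) = true := by decide +kernel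

theorem rot2_12 : T.rot 2 [3, 4, 3, 4, 5, 2, 3, 4, 3, 4, 2, 3, 4, 3, 4, 2, 3, 4, 3, 4, 2, 3, 4, 3, 4, 2, 3, 4, 3, 4, 5, 2, 3, 4, 3, 4, 2, 3, 4, 3, 4, 2, 3, 4, 3, 4, 2, 3, 4, 3, 4, 2, 3, 4, 3, 4, 5, 2, 3, 4, 3, 4, 2, 3, 4, 3, 4, 2, 3, 4, 3, 4, 2, 3, 4, 3, 4] (sel (ones 280) ip2 12) = true := by decide +kernel

theorem rot2_12r : band (Rule.ok (2 * 5) EX RL ⟨2 :: [3, 4, 3, 4, 5, 2, 3, 4, 3, 4, 2, 3, 4, 3, 4, 2, 3, 4, 3, 4, 2, 3, 4, 3, 4, 2, 3, 4, 3, 4, 5, 2, 3, 4, 3, 4, 2, 3, 4, 3, 4, 2, 3, 4, 3, 4, 2, 3, 4, 3, 4, 2, 3, 4, 3, 4, 5, 2, 3, 4, 3, 4, 2, 3, 4, 3, 4, 2, 3, 4, 3, 4, 2, 3, 4, 3, 4], [8, 6, 4, 6, 4, 2], 11, false⟩) (lall (memL L) [3, 4, 3, 4, 5, 2, 3, 4, 3, 4, 2, 3, 4, 3, 4, 2, 3, 4, 3, 4, 2, 3, 4, 3, 4, 2, 3, 4, 3, 4, 5, 2, 3, 4, 3, 4, 2, 3, 4, 3, 4, 2, 3, 4, 3, 4, 2, 3, 4, 3, 4,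 2, 3, 4, 3, 4, 5, 2, 3, 4, 3, 4, 2, 3, 4, 3, 4, 2, 3, 4, 3, 4, 2, 3, 4, 3, 4]) = true := by decide +kernel

theorem cov2 : T.cover 2 [(sel (ones 280) ip2 1), (sel (ones 280) ip2 2), (sel (ones 280) ip2 3), (sel (ones 280) ip2 4), (sel (ones 280) ip2 5), (sel (ones 280) ip2 6), (sel (ones 280) ip2 7), (sel (ones 280) ip2 8), (sel (ones 280) ip2 9), (sel (ones 280) ip2 10), (sel (ones 280) ip2 11), (sel (ones 280) ip2 12), 1] = true := by decide +kernel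

theorem tl2 : T.treeLt 9 2 = true := by decide +kernel

theorem rot3_1 : T.rot 3 [3] (sel (ones 280) ip3 1) = true := by decide +kernel

theorem rot3_1r : band (Rule.ok (2 * 5) EX RL ⟨3 :: [3], [], 12, false⟩) (lall (memL L) [3]) = true := by decide +kernel

theorem rot3_2 : T.rot 3 [1, 3, 1] (sel (ones 280) ip3 2) = true := by decide +kernel

theorem rot3_2r : band (Rule.ok (2 * 5) EX RL ⟨3 :: [1, 3, 1], [], 1, true⟩) (lall (memL L) [1, 3, 1]) = true := by decide +kernel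

theorem rot3_3 : T.rot 3 [5, 3, 5] (sel (ones 280) ip3 3) = true := by decide +kernel

theorem rot3_3r : band (Rule.ok (2 * 5) EX RL ⟨3 :: [5, 3, 5], [], 8, false⟩) (lall (memL L) [5, 3, 5]) = true := by decide +kernel

theorem rot3_4 : T.rot 3 [2, 3, 2, 3, 2] (sel (ones 280) ip3 4) = true := by decide +kernel

theorem rot3_4r : band (Rule.ok (2 * 5) EX RL ⟨3 :: [2, 3, 2, 3, 2], [], 4, true⟩) (lall (memL L) [2, 3, 2, 3, 2]) = true := by decide +kernel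

theorem rot3_5 : T.rot 3 [4, 3, 4, 3, 4, 3, 4, 1] (sel (ones 280) ip3 5) = true := by decide +kernel

theorem rot3_5r : band (Rule.ok (2 * 5) EX RL ⟨3 :: [4, 3, 4, 3, 4, 3, 4, 1], [], 10, true⟩) (lall (memL L) [4, 3, 4, 3, 4, 3, 4, 1]) = true := by decide +kernel

theorem rot3_6 : T.rot 3 [4, 3, 4, 3, 4, 1, 3, 4] (sel (ones 280) ip3 6) = true := by decide +kernel

theorem rot3_6r : band (Rule.ok (2 * 5) EX RL ⟨3 :: [4, 3, 4, 3, 4, 1, 3, 4], [4, 6], 10, true⟩) (lall (memL L) [4, 3, 4, 3, 4, 1, 3, 4]) = true := by decide +kernel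

theorem rot3_7 : T.rot 3 [4, 3, 4, 1, 3, 4, 3, 4] (sel (ones 280) ip3 7) = true := by decide +kernel

theorem rot3_7r : band (Rule.ok (2 * 5) EX RL ⟨3 :: [4, 3, 4, 1, 3, 4, 3, 4], [4, 6, 4, 6], 10, true⟩) (lall (memL L) [4, 3, 4, 1, 3, 4, 3, 4]) = true := by decide +kernel

theorem rot3_8 : T.rot 3 [4, 1, 3, 4, 3, 4, 3, 4] (sel (ones 280) ip3 8) = true := by decide +kernel

theorem rot3_8r : band (Rule.ok (2 * 5) EX RL ⟨3 :: [4, 1, 3, 4, 3, 4, 3, 4], [0, 6, 4], 10, true⟩) (lall (memL L) [4, 1, 3, 4, 3, 4, 3, 4]) = true := by decide +kernel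

theorem rot3_9 : T.rot 3 [4, 3, 4, 3, 4, 3, 1, 4] (sel (ones 280) ip3 9) = true := by decide +kernel

theorem rot3_9r : band (Rule.ok (2 * 5) EX RL ⟨3 :: [4, 3, 4, 3, 4, 3, 1, 4], [0, 6], 10, false⟩) (lall (memL L) [4, 3, 4, 3, 4, 3, 1, 4]) = true := by decide +kernel

theorem rot3_10 : T.rot 3 [4, 3, 4, 3, 1, 4, 3, 4] (sel (ones 280) ip3 10) = true := by decide +kernel

theorem rot3_10r : band (Rule.ok (2 * 5) EX RL ⟨3 :: [4, 3, 4, 3, 1, 4, 3, 4], [0, 6, 4, 6], 10, false⟩) (lall (memL L) [4, 3, 4, 3, 1, 4, 3, 4]) = true := by decide +kernel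

theorem rot3_11 : T.rot 3 [4, 3, 2, 4, 3, 4, 3, 2, 4, 3, 4, 3, 2, 5, 4, 3, 4, 3, 2, 4, 3, 4, 3, 2, 4, 3, 4, 3, 2, 4, 3, 4, 3, 2, 4, 3, 4, 3, 2, 5, 4, 3, 4, 3, 2, 4, 3, 4, 3, 2, 4, 3, 4, 3, 2, 4, 3, 4, 3, 2, 4, 3, 4, 3, 2, 5, 4, 3, 4, 3, 2, 4, 3, 4, 3, 2, 4] (sel (ones 280) ip3 11) = true := by decide +kernel

theorem rot3_11r : band (Rule.ok (2 * 5) EX RL ⟨3 :: [4, 3, 2, 4, 3, 4, 3, 2, 4, 3, 4, 3, 2, 5, 4, 3, 4, 3, 2, 4, 3, 4, 3, 2, 4, 3, 4, 3, 2, 4, 3, 4, 3, 2, 4, 3, 4, 3, 2, 5, 4, 3, 4, 3, 2, 4, 3, 4, 3, 2, 4, 3, 4, 3, 2, 4, 3, 4, 3, 2, 4, 3, 4, 3, 2, 5, 4, 3, 4, 3, 2, 4, 3, 4, 3, 2, 4], [8, 6, 4, 6, 4, 2, 6, 4, 6, 4, 2, 6], 11, true⟩) (lall (memL L) [4, 3, 2, 4, 3, 4, 3, 2, 4, 3, 4, 3, 2, 5, 4, 3, 4, 3, 2, 4, 3, 4, 3, 2, 4, 3, 4, 3, 2, 4, 3, 4, 3, 2, 4, 3, 4, 3, 2, 5, 4, 3, 4, 3, 2, 4,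 3, 4, 3, 2, 4, 3, 4, 3, 2, 4, 3, 4, 3, 2, 4, 3, 4, 3, 2, 5, 4, 3, 4, 3, 2, 4, 3, 4, 3, 2, 4]) = true := by decide +kernel

theorem rot3_12 : T.rot 3 [4, 3, 2, 4, 3, 4, 3, 2, 5, 4, 3, 4, 3, 2, 4, 3, 4, 3, 2, 4, 3, 4, 3, 2, 4, 3, 4, 3, 2, 4, 3, 4, 3, 2, 5, 4, 3, 4, 3, 2, 4, 3, 4, 3, 2, 4, 3, 4, 3, 2, 4, 3, 4, 3, 2, 4, 3, 4, 3, 2, 5, 4, 3, 4, 3, 2, 4, 3, 4, 3, 2, 4, 3, 4, 3, 2, 4] (sel (ones 280) ip3 12) = true := by decide +kernel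

theorem rot3_12r : band (Rule.ok (2 * 5) EX RL ⟨3 :: [4, 3, 2, 4, 3, 4, 3, 2, 5, 4, 3, 4, 3, 2, 4, 3, 4, 3, 2, 4, 3, 4, 3, 2, 4, 3, 4, 3, 2, 4, 3, 4, 3, 2, 5, 4, 3, 4, 3, 2, 4, 3, 4, 3, 2, 4, 3, 4, 3, 2, 4, 3, 4, 3, 2, 4, 3, 4, 3, 2, 5, 4, 3, 4, 3, 2, 4, 3, 4, 3, 2, 4, 3, 4, 3, 2, 4], [2, 4, 6, 4, 6, 2, 4, 6, 4], 11, true⟩) (lall (memL L) [4, 3, 2, 4, 3, 4, 3, 2, 5, 4, 3, 4, 3, 2, 4, 3, 4, 3, 2, 4, 3, 4, 3, 2, 4, 3, 4, 3, 2, 4, 3, 4, 3, 2, 5, 4, 3, 4, 3, 2, 4, 3, 4, 3, 2, 4, 3, 4, 3, 2, 4, 3, 4, 3, 2, 4, 3, 4, 3, 2, 5, 4, 3, 4, 3, 2, 4, 3, 4, 3, 2, 4, 3, 4, 3, 2, 4]) = true := by decide +kernel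

theorem rot3_13 : T.rot 3 [2, 4, 3, 4, 3, 2, 5, 4, 3, 4, 3, 2, 4, 3, 4, 3, 2, 4, 3, 4, 3, 2, 4, 3, 4, 3, 2, 4, 3, 4, 3, 2, 5, 4, 3, 4, 3, 2, 4, 3, 4, 3, 2, 4, 3, 4, 3, 2, 4, 3, 4, 3, 2, 4, 3, 4, 3, 2, 5, 4, 3, 4, 3, 2, 4, 3, 4, 3, 2, 4, 3, 4, 3, 2, 4, 3, 4] (sel (ones 280) ip3 13) = true := by decide +kernel

theorem rot3_13r : band (Rule.ok (2 * 5) EX RL ⟨3 :: [2, 4, 3, 4, 3, 2, 5, 4, 3, 4, 3, 2, 4, 3, 4, 3, 2, 4, 3, 4, 3, 2, 4, 3, 4, 3, 2, 4, 3, 4, 3, 2, 5, 4, 3, 4, 3, 2, 4, 3, 4, 3, 2, 4, 3, 4, 3, 2, 4, 3, 4, 3, 2, 4, 3, 4, 3, 2, 5, 4, 3, 4, 3, 2, 4, 3, 4, 3, 2, 4, 3, 4, 3, 2, 4, 3, 4], [2, 4, 6, 4, 6, 2, 4], 11, true⟩) (lall (memL L) [2, 4, 3, 4, 3, 2, 5, 4, 3, 4, 3, 2, 4, 3, 4, 3, 2, 4, 3, 4, 3, 2, 4, 3, 4, 3, 2, 4, 3, 4, 3, 2, 5, 4, 3, 4, 3, 2, 4, 3, 4, 3, 2, 4, 3, 4, 3, 2, 4, 3, 4,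 3, 2, 4, 3, 4, 3, 2, 5, 4, 3, 4, 3, 2, 4, 3, 4, 3, 2, 4, 3, 4, 3, 2, 4, 3, 4]) = true := by decide +kernel

theorem rot3_14 : T.rot 3 [4, 3, 4, 2, 3, 4, 3, 4, 2, 3, 4, 3, 4, 2, 3, 4, 3, 4, 5, 2, 3, 4, 3, 4, 2, 3, 4, 3, 4, 2, 3, 4, 3, 4, 2, 3, 4, 3, 4, 2, 3, 4, 3, 4, 5, 2, 3, 4, 3, 4, 2, 3, 4, 3, 4, 2, 3, 4, 3, 4, 2, 3, 4, 3, 4, 2, 3, 4, 3, 4, 5, 2, 3, 4, 3, 4, 2] (sel (ones 280) ip3 14) = true := by decide +kernel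

theorem rot3_14r : band (Rule.ok (2 * 5) EX RL ⟨3 :: [4, 3, 4, 2, 3, 4, 3, 4, 2, 3, 4, 3, 4, 2, 3, 4, 3, 4, 5, 2, 3, 4, 3, 4, 2, 3, 4, 3, 4, 2, 3, 4, 3, 4, 2, 3, 4, 3, 4, 2, 3, 4, 3, 4, 5, 2, 3, 4, 3, 4, 2, 3, 4, 3, 4, 2, 3, 4, 3, 4, 2, 3, 4, 3, 4, 2, 3, 4, 3, 4, 5, 2, 3, 4, 3, 4, 2], [2, 4, 6, 4, 6, 2], 11, false⟩) (lall (memL L) [4, 3, 4, 2, 3, 4, 3, 4, 2, 3, 4, 3, 4, 2, 3, 4, 3, 4, 5, 2, 3, 4, 3, 4, 2, 3, 4, 3, 4, 2, 3, 4, 3, 4, 2, 3, 4, 3, 4, 2, 3, 4, 3, 4, 5, 2, 3, 4, 3, 4, 2, 3, 4, 3, 4, 2, 3, 4, 3, 4, 2, 3, 4, 3, 4, 2, 3, 4, 3, 4, 5, 2, 3, 4, 3, 4, 2]) = true := by decide +kernel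

theorem ep0a : T.treePath [5, 4, 3, 2, 1, 2] (Nat.shiftLeft 1 9) 1 = true := by decide +kernel

theorem ep0b : T.treePath [5, 4, 3, 2, 1, 2, 1] (Nat.shiftLeft 1 13) 1 = true := by decide +kernel

theorem ep0c : band (lall (fun z => Nat.ble z 255) ([5, 4, 3, 2, 1, 2] ++ 3 :: [1, 2, 1, 2, 3, 4, 5])) (concl F IV 241 0x80000c0000a000070000580003c0002a001e0000070000280000c00004000010000000e (encA ([5, 4, 3, 2, 1, 2] ++ 3 :: [1, 2, 1, 2, 3, 4, 5]) 0)) = true := by decide +kernel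

theorem ep0d : band (Rule.ok (2 * 5) EX [] ⟨lapp [5, 4, 3, 2, 1, 2, 1] [1, 2, 1, 2, 3, 4, 5], [], 0, false⟩) (band (lall (memL L) [5, 4, 3, 2, 1, 2]) (lall (memL L) [5, 4, 3, 2, 1, 2, 1])) = true := by decide +kernel

theorem cov3 : T.cover 3 [(sel (ones 280) ip3 1), (sel (ones 280) ip3 2), (sel (ones 280) ip3 3), (sel (ones 280) ip3 4), (sel (ones 280) ip3 5), (sel (ones 280) ip3 6), (sel (ones 280) ip3 7), (sel (ones 280) ip3 8), (sel (ones 280) ip3 9), (sel (ones 280) ip3 10), (sel (ones 280) ip3 11), (sel (ones 280) ip3 12), (sel (ones 280) ip3 13), (sel (ones 280) ip3 14), 1, (Nat.shiftLeft 1 9)] = true := by decide +kernel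

theorem tl3 : T.treeLt 9 3 = true := by decide +kernel

theorem rot4_1 : T.rot 4 [4] (sel (ones 280) ip4 1) = true := by decide +kernel

theorem rot4_1r : band (Rule.ok (2 * 5) EX RL ⟨4 :: [4], [], 12, false⟩) (lall (memL L) [4]) = true := by decide +kernel

theorem rot4_2 : T.rot 4 [1, 4, 1] (sel (ones 280) ip4 2) = true := by decide +kernel

theorem rot4_2r : band (Rule.ok (2 * 5) EX RL ⟨4 :: [1, 4, 1], [], 2, true⟩) (lall (memL L) [1, 4, 1]) = true := by decide +kernel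

theorem rot4_3 : T.rot 4 [2, 4, 2] (sel (ones 280) ip4 3) = true := by decide +kernel

theorem rot4_3r : band (Rule.ok (2 * 5) EX RL ⟨4 :: [2, 4, 2], [], 5, true⟩) (lall (memL L) [2, 4, 2]) = true := by decide +kernel

theorem rot4_4 : T.rot 4 [5, 4, 5, 4, 5] (sel (ones 280) ip4 4) = true := by decide +kernel

theorem rot4_4r : band (Rule.ok (2 * 5) EX RL ⟨4 :: [5, 4, 5, 4, 5], [], 9, false⟩) (lall (memL L) [5, 4, 5, 4, 5]) = true := by decide +kernel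

theorem rot4_5 : T.rot 4 [3, 4, 3, 4, 3, 4, 1, 3] (sel (ones 280) ip4 5) = true := by decide +kernel

theorem rot4_5r : band (Rule.ok (2 * 5) EX RL ⟨4 :: [3, 4, 3, 4, 3, 4, 1, 3], [4], 10, true⟩) (lall (memL L) [3, 4, 3, 4, 3, 4, 1, 3]) = true := by decide +kernel

theorem rot4_6 : T.rot 4 [3, 4, 3, 4, 1, 3, 4, 3] (sel (ones 280) ip4 6) = true := by decide +kernel

theorem rot4_6r : band (Rule.ok (2 * 5) EX RL ⟨4 :: [3, 4, 3, 4, 1, 3, 4, 3], [4, 6, 4], 10, true⟩) (lall (memL L) [3, 4, 3, 4, 1, 3, 4, 3]) = true := by decide +kernel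

theorem rot4_7 : T.rot 4 [3, 4, 1, 3, 4, 3, 4, 3] (sel (ones 280) ip4 7) = true := by decide +kernel

theorem rot4_7r : band (Rule.ok (2 * 5) EX RL ⟨4 :: [3, 4, 1, 3, 4, 3, 4, 3], [0, 6, 4, 6], 10, true⟩) (lall (memL L) [3, 4, 1, 3, 4, 3, 4, 3]) = true := by decide +kernel

theorem rot4_8 : T.rot 4 [1, 3, 4, 3, 4, 3, 4, 3] (sel (ones 280) ip4 8) = true := by decide +kernel

theorem rot4_8r : band (Rule.ok (2 * 5) EX RL ⟨4 :: [1, 3, 4, 3, 4, 3, 4, 3], [0, 6], 10, true⟩) (lall (memL L) [1, 3, 4, 3, 4, 3, 4, 3]) = true := by decide +kernel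

theorem rot4_9 : T.rot 4 [3, 4, 3, 4, 3, 4, 3, 1] (sel (ones 280) ip4 9) = true := by decide +kernel

theorem rot4_9r : band (Rule.ok (2 * 5) EX RL ⟨4 :: [3, 4, 3, 4, 3, 4, 3, 1], [0], 10, false⟩) (lall (memL L) [3, 4, 3, 4, 3, 4, 3, 1]) = true := by decide +kernel

theorem rot4_10 : T.rot 4 [3, 1, 4, 3, 4, 3, 4, 3] (sel (ones 280) ip4 10) = true := by decide +kernel

theorem rot4_10r : band (Rule.ok (2 * 5) EX RL ⟨4 :: [3, 1, 4, 3, 4, 3, 4, 3], [4, 6], 10, false⟩) (lall (memL L) [3, 1, 4, 3, 4, 3, 4, 3]) = true := by decide +kernel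

theorem rot4_11 : T.rot 4 [3, 2, 4, 3, 4, 3, 2, 4, 3, 4, 3, 2, 5, 4, 3, 4, 3, 2, 4, 3, 4, 3, 2, 4, 3, 4, 3, 2, 4, 3, 4, 3, 2, 4, 3, 4, 3, 2, 5, 4, 3, 4, 3, 2, 4, 3, 4, 3, 2, 4, 3, 4, 3, 2, 4, 3, 4, 3, 2, 4, 3, 4, 3, 2, 5, 4, 3, 4, 3, 2, 4, 3, 4, 3, 2, 4, 3] (sel (ones 280) ip4 11) = true := by decide +kernel

theorem rot4_11r : band (Rule.ok (2 * 5) EX RL ⟨4 :: [3, 2, 4, 3, 4, 3, 2, 4, 3, 4, 3, 2, 5, 4, 3, 4, 3, 2, 4, 3, 4, 3, 2, 4, 3, 4, 3, 2, 4, 3, 4, 3, 2, 4, 3, 4, 3, 2, 5, 4, 3, 4, 3, 2, 4, 3, 4, 3, 2, 4, 3, 4, 3, 2, 4, 3, 4, 3, 2, 4, 3, 4, 3, 2, 5, 4, 3, 4, 3, 2, 4, 3, 4, 3, 2, 4, 3], [2, 4, 6, 4, 6, 2, 4, 6, 4, 6, 2, 4, 6], 11, true⟩) (lall (memL L) [3, 2, 4, 3, 4, 3, 2, 4, 3, 4, 3, 2, 5, 4, 3, 4, 3, 2, 4, 3, 4, 3, 2, 4, 3, 4, 3, 2, 4, 3, 4, 3, 2, 4, 3, 4, 3, 2, 5, 4, 3, 4, 3, 2, 4,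 3, 4, 3, 2, 4, 3, 4, 3, 2, 4, 3, 4, 3, 2, 4, 3, 4, 3, 2, 5, 4, 3, 4, 3, 2, 4, 3, 4, 3, 2, 4, 3]) = true := by decide +kernel

theorem rot4_12 : T.rot 4 [3, 2, 4, 3, 4, 3, 2, 5, 4, 3, 4, 3, 2, 4, 3, 4, 3, 2, 4, 3, 4, 3, 2, 4, 3, 4, 3, 2, 4, 3, 4, 3, 2, 5, 4, 3, 4, 3, 2, 4, 3, 4, 3, 2, 4, 3, 4, 3, 2, 4, 3, 4, 3, 2, 4, 3, 4, 3, 2, 5, 4, 3, 4, 3, 2, 4, 3, 4, 3, 2, 4, 3, 4, 3, 2, 4, 3] (sel (ones 280) ip4 12) = true := by decide +kernel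

theorem rot4_12r : band (Rule.ok (2 * 5) EX RL ⟨4 :: [3, 2, 4, 3, 4, 3, 2, 5, 4, 3, 4, 3, 2, 4, 3, 4, 3, 2, 4, 3, 4, 3, 2, 4, 3, 4, 3, 2, 4, 3, 4, 3, 2, 5, 4, 3, 4, 3, 2, 4, 3, 4, 3, 2, 4, 3, 4, 3, 2, 4, 3, 4, 3, 2, 4, 3, 4, 3, 2, 5, 4, 3, 4, 3, 2, 4, 3, 4, 3, 2, 4, 3, 4, 3, 2, 4, 3], [2, 4, 6, 4, 6, 2, 4, 6], 11, true⟩) (lall (memL L) [3, 2, 4, 3, 4, 3, 2, 5, 4, 3, 4, 3, 2, 4, 3, 4, 3, 2, 4, 3, 4, 3, 2, 4, 3, 4, 3, 2, 4, 3, 4, 3, 2, 5, 4, 3, 4, 3, 2, 4, 3, 4, 3, 2, 4, 3, 4, 3, 2, 4, 3, 4, 3, 2, 4, 3, 4, 3, 2, 5, 4, 3, 4, 3, 2, 4, 3, 4, 3, 2, 4, 3, 4, 3, 2, 4, 3]) = true := by decide +kernel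

theorem rot4_13 : T.rot 4 [3, 4, 3, 2, 5, 4, 3, 4, 3, 2, 4, 3, 4, 3, 2, 4, 3, 4, 3, 2, 4, 3, 4, 3, 2, 4, 3, 4, 3, 2, 5, 4, 3, 4, 3, 2, 4, 3, 4, 3, 2, 4, 3, 4, 3, 2, 4, 3, 4, 3, 2, 4, 3, 4, 3, 2, 5, 4, 3, 4, 3, 2, 4, 3, 4, 3, 2, 4, 3, 4, 3, 2, 4, 3, 4, 3, 2] (sel (ones 280) ip4 13) = true := by decide +kernel

theorem rot4_13r : band (Rule.ok (2 * 5) EX RL ⟨4 :: [3, 4, 3, 2, 5, 4, 3, 4, 3, 2, 4, 3, 4, 3, 2, 4, 3, 4, 3, 2, 4, 3, 4, 3, 2, 4, 3, 4, 3, 2, 5, 4, 3, 4, 3, 2, 4, 3, 4, 3, 2, 4, 3, 4, 3, 2, 4, 3, 4, 3, 2, 4, 3, 4, 3, 2, 5, 4, 3, 4, 3, 2, 4, 3, 4, 3, 2, 4, 3, 4, 3, 2, 4, 3, 4, 3, 2], [2, 4, 6, 4, 6], 11, true⟩) (lall (memL L) [3, 4, 3, 2, 5, 4, 3, 4, 3, 2, 4, 3, 4, 3, 2, 4, 3, 4, 3, 2, 4, 3, 4, 3, 2, 4, 3, 4, 3, 2, 5, 4, 3, 4, 3, 2, 4, 3, 4, 3, 2, 4, 3, 4, 3, 2, 4, 3, 4, 3, 2, 4, 3,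 4, 3, 2, 5, 4, 3, 4, 3, 2, 4, 3, 4, 3, 2, 4, 3, 4, 3, 2, 4, 3, 4, 3, 2]) = true := by decide +kernel

theorem rot4_14 : T.rot 4 [2, 3, 4, 3, 4, 2, 3, 4, 3, 4, 2, 3, 4, 3, 4, 2, 3, 4, 3, 4, 5, 2, 3, 4, 3, 4, 2, 3, 4, 3, 4, 2, 3, 4, 3, 4, 2, 3, 4, 3, 4, 2, 3, 4, 3, 4, 5, 2, 3, 4, 3, 4, 2, 3, 4, 3, 4, 2, 3, 4, 3, 4, 2, 3, 4, 3, 4, 2, 3, 4, 3, 4, 5, 2, 3, 4, 3] (sel (ones 280) ip4 14) = true := by decide +kernel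

theorem rot4_14r : band (Rule.ok (2 * 5) EX RL ⟨4 :: [2, 3, 4, 3, 4, 2, 3, 4, 3, 4, 2, 3, 4, 3, 4, 2, 3, 4, 3, 4, 5, 2, 3, 4, 3, 4, 2, 3, 4, 3, 4, 2, 3, 4, 3, 4, 2, 3, 4, 3, 4, 2, 3, 4, 3, 4, 5, 2, 3, 4, 3, 4, 2, 3, 4, 3, 4, 2, 3, 4, 3, 4, 2, 3, 4, 3, 4, 2, 3, 4, 3, 4, 5, 2, 3, 4, 3], [2, 4, 6, 4], 11, false⟩) (lall (memL L) [2, 3, 4, 3, 4, 2, 3, 4, 3, 4, 2, 3, 4, 3, 4, 2, 3, 4, 3, 4, 5, 2, 3, 4, 3, 4, 2, 3, 4, 3, 4, 2, 3, 4, 3, 4, 2, 3, 4, 3, 4, 2, 3, 4, 3, 4, 5, 2, 3, 4, 3, 4, 2, 3, 4, 3, 4, 2, 3, 4, 3, 4, 2, 3, 4, 3, 4, 2, 3, 4, 3, 4, 5, 2, 3, 4, 3]) = true := by decide +kernel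

theorem cov4 : T.cover 4 [(sel (ones 280) ip4 1), (sel (ones 280) ip4 2), (sel (ones 280) ip4 3), (sel (ones 280) ip4 4), (sel (ones 280) ip4 5), (sel (ones 280) ip4 6), (sel (ones 280) ip4 7), (sel (ones 280) ip4 8), (sel (ones 280) ip4 9), (sel (ones 280) ip4 10), (sel (ones 280) ip4 11), (sel (ones 280) ip4 12), (sel (ones 280) ip4 13), (sel (ones 280) ip4 14), 1] = true := by decide +kernel

theorem tl4 : T.treeLt 9 4 = true := by decide +kernel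

theorem rot5_1 : T.rot 5 [5] (sel (ones 280) ip5 1) = true := by decide +kernel

theorem rot5_1r : band (Rule.ok (2 * 5) EX RL ⟨5 :: [5], [], 12, false⟩) (lall (memL L) [5]) = true := by decide +kernel

theorem rot5_2 : T.rot 5 [1, 5, 1] (sel (ones 280) ip5 2) = true := by decide +kernel

theorem rot5_2r : band (Rule.ok (2 * 5) EX RL ⟨5 :: [1, 5, 1], [], 3, true⟩) (lall (memL L) [1, 5, 1]) = true := by decide +kernel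

theorem rot5_3 : T.rot 5 [2, 5, 2] (sel (ones 280) ip5 3) = true := by decide +kernel

theorem rot5_3r : band (Rule.ok (2 * 5) EX RL ⟨5 :: [2, 5, 2], [], 6, true⟩) (lall (memL L) [2, 5, 2]) = true := by decide +kernel

theorem rot5_4 : T.rot 5 [3, 5, 3] (sel (ones 280) ip5 4) = true := by decide +kernel

theorem rot5_4r : band (Rule.ok (2 * 5) EX RL ⟨5 :: [3, 5, 3], [], 8, true⟩) (lall (memL L) [3, 5, 3]) = true := by decide +kernel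

theorem rot5_5 : T.rot 5 [4, 5, 4, 5, 4] (sel (ones 280) ip5 5) = true := by decide +kernel

theorem rot5_5r : band (Rule.ok (2 * 5) EX RL ⟨5 :: [4, 5, 4, 5, 4], [], 9, true⟩) (lall (memL L) [4, 5, 4, 5, 4]) = true := by decide +kernel

theorem rot5_6 : T.rot 5 [4, 3, 4, 3, 2, 4, 3, 4, 3, 2, 4, 3, 4, 3, 2, 4, 3, 4, 3, 2, 4, 3, 4, 3, 2, 5, 4, 3, 4, 3, 2, 4, 3, 4, 3, 2, 4, 3, 4, 3, 2, 4, 3, 4, 3, 2, 4, 3, 4, 3, 2, 5, 4, 3, 4, 3, 2, 4, 3, 4, 3, 2, 4, 3, 4, 3, 2, 4, 3, 4, 3, 2, 4, 3, 4, 3, 2] (sel (ones 280) ip5 6) = true := by decide +kernel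

theorem rot5_6r : band (Rule.ok (2 * 5) EX RL ⟨5 :: [4, 3, 4, 3, 2, 4, 3, 4, 3, 2, 4, 3, 4, 3, 2, 4, 3, 4, 3, 2, 4, 3, 4, 3, 2, 5, 4, 3, 4, 3, 2, 4, 3, 4, 3, 2, 4, 3, 4, 3, 2, 4, 3, 4, 3, 2, 4, 3, 4, 3, 2, 5, 4, 3, 4, 3, 2, 4, 3, 4, 3, 2, 4, 3, 4, 3, 2, 4, 3, 4, 3, 2, 4, 3, 4, 3, 2], [], 11, true⟩) (lall (memL L) [4, 3, 4, 3, 2, 4, 3, 4, 3, 2, 4, 3, 4, 3, 2, 4, 3, 4, 3, 2, 4, 3, 4, 3, 2, 5, 4, 3, 4, 3, 2, 4, 3, 4, 3, 2, 4, 3, 4, 3, 2, 4, 3, 4, 3, 2, 4, 3, 4, 3, 2, 5, 4, 3, 4, 3, 2, 4, 3, 4, 3, 2, 4, 3, 4, 3, 2, 4, 3, 4, 3, 2, 4, 3, 4, 3, 2]) = true := by decide +kernel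

theorem rot5_7 : T.rot 5 [2, 3, 4, 3, 4, 2, 3, 4, 3, 4, 2, 3, 4, 3, 4, 2, 3, 4, 3, 4, 2, 3, 4, 3, 4, 5, 2, 3, 4, 3, 4, 2, 3, 4, 3, 4, 2, 3, 4, 3, 4, 2, 3, 4, 3, 4, 2, 3, 4, 3, 4, 5, 2, 3, 4, 3, 4, 2, 3, 4, 3, 4, 2, 3, 4, 3, 4, 2, 3, 4, 3, 4, 2, 3, 4, 3, 4] (sel (ones 280) ip5 7) = true := by decide +kernel

theorem rot5_7r : band (Rule.ok (2 * 5) EX RL ⟨5 :: [2, 3, 4, 3, 4, 2, 3, 4, 3, 4, 2, 3, 4, 3, 4, 2, 3, 4, 3, 4, 2, 3, 4, 3, 4, 5, 2, 3, 4, 3, 4, 2, 3, 4, 3, 4, 2, 3, 4, 3, 4, 2, 3, 4, 3, 4, 2, 3, 4, 3, 4, 5, 2, 3, 4, 3, 4, 2, 3, 4, 3, 4, 2, 3, 4, 3, 4, 2, 3, 4, 3, 4, 2, 3, 4, 3, 4], [8], 11, false⟩) (lall (memL L) [2, 3, 4, 3, 4, 2, 3, 4, 3, 4, 2, 3, 4, 3, 4, 2, 3, 4, 3, 4, 2, 3, 4, 3, 4, 5, 2, 3, 4, 3, 4, 2, 3, 4, 3, 4, 2, 3, 4, 3, 4, 2, 3, 4, 3, 4, 2, 3, 4, 3, 4, 5, 2, 3, 4, 3, 4,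 2, 3, 4, 3, 4, 2, 3, 4, 3, 4, 2, 3, 4, 3, 4, 2, 3, 4, 3, 4]) = true := by decide +kernel

theorem cov5 : T.cover 5 [(sel (ones 280) ip5 1), (sel (ones 280) ip5 2), (sel (ones 280) ip5 3), (sel (ones 280) ip5 4), (sel (ones 280) ip5 5), (sel (ones 280) ip5 6), (sel (ones 280) ip5 7)] = true := by decide +kernel

theorem tl5 : T.treeLt 9 5 = true := by decide +kernel

end Cfsg.Agent.Spor.Suz280
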